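import Cfsg.Agent.Spor.U43a.S.D0

set_option autoImplicit false
set_option maxRecDepth 100000000
set_option Elab.async false

namespace Cfsg.Agent.Spor.U43a.S

theorem gr4 : sub M3 (U.growI W2 [1, 2, 3, 2, 1, 0, 3] (Nat.shiftLeft 1 372)) = true := by decide +kernel

theorem sd6 : U.sends [11, 3, 7, 3, 7, 11] 0 372 = true := by decide +kernel

theorem gr7 : sub (ones 2835) (U.growI ([11, 3, 7, 3, 7, 11] :: W2) [0, 2, 3, 4, 3, 2, 1, 0, 2, 3, 4, 3, 2, 1, 0, 2, 3, 4, 3, 2, 1, 0, 2, 3, 4, 3, 2, 1] (Nat.shiftLeft 1 0)) = true := by decide +kernel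

theorem gr10 : sub M9 (U.growI W2 [1, 2, 3, 2, 1, 0, 3] (Nat.shiftLeft 1 26)) = true := by decide +kernel

theorem sd12 : U.sends [11, 1, 3, 11] 0 26 = true := by decide +kernel

theorem gr13 : sub (ones 2835) (U.growI ([11, 1, 3, 11] :: W2) [0, 2, 3, 4, 3, 2, 1, 0, 2, 3, 4, 3, 2, 1, 0, 2, 3, 4, 3, 2, 1, 0, 2, 3] (Nat.shiftLeft 1 0)) = true := by decide +kernel

theorem gr16 : sub M15 (U.growI W2 [0, 2, 3, 2, 1, 0, 1] (Nat.shiftLeft 1 29)) = true := by decide +kernel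

theorem sd18 : U.sends [11, 1, 5, 11] 0 29 = true := by decide +kernel

theorem gr19 : sub (ones 2835) (U.growI ([11, 1, 5, 11] :: W2) [0, 1, 3, 4, 3, 2, 1, 0, 1, 2, 3, 4, 3, 2, 1, 0, 1, 2, 3, 4, 3, 2, 1, 0, 1, 2, 3, 4] (Nat.shiftLeft 1 0)) = true := by decide +kernel

theorem gr22 : sub M21 (U.growI W2 [1, 2, 3, 2, 1, 0, 1, 2, 3, 2] (Nat.shiftLeft 1 48)) = true := by decide +kernel

theorem sd24 : U.sends [11, 3, 9, 11] 0 48 = true := by decide +kernel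

theorem gr25 : sub (ones 2835) (U.growI ([11, 3, 9, 11] :: W2) [0, 2, 3, 4, 3, 2, 1, 0, 0, 1, 2, 3, 4, 3, 2, 1, 0, 0, 1, 2, 3, 4, 3, 2, 1, 0, 0, 2] (Nat.shiftLeft 1 0)) = true := by decide +kernel

theorem gr28 : sub M27 (U.growI W2 [0, 1, 2, 3, 2, 1, 0, 1, 2, 3, 2] (Nat.shiftLeft 1 56)) = true := by decide +kernel

theorem sd30 : U.sends [11, 5, 7, 11] 0 56 = true := by decide +kernel

theorem gr31 : sub (ones 2835) (U.growI ([11, 5, 7, 11] :: W2) [0, 1, 2, 3, 4, 3, 2, 1, 0, 0, 1, 2, 3, 4, 3, 2, 1, 0, 0, 1, 2, 3, 4, 3, 2, 0] (Nat.shiftLeft 1 0)) = true := by decide +kernel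

theorem gr34 : sub M33 (U.growI W2 [0, 1, 2, 3, 2, 1, 0, 1, 2, 3, 2, 1, 0] (Nat.shiftLeft 1 40)) = true := by decide +kernel

theorem sd36 : U.sends [11, 3, 5, 11] 0 40 = true := by decide +kernel

theorem gr37 : sub (ones 2835) (U.growI ([11, 3, 5, 11] :: W2) [0, 1, 2, 3, 4, 3, 2, 1, 0, 0, 1, 2, 3, 4, 3, 2, 1, 0, 0, 1, 2] (Nat.shiftLeft 1 0)) = true := by decide +kernel

theorem gr40 : sub M39 (U.growI W2 [0, 1, 2, 3, 2, 1, 0, 1, 2, 3, 2, 1, 0] (Nat.shiftLeft 1 349)) = true := by decide +kernel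

theorem sd42 : U.sends [11, 3, 5, 9, 3, 11] 0 349 = true := by decide +kernel

theorem gr43 : sub (ones 2835) (U.growI ([11, 3, 5, 9, 3, 11] :: W2) [0, 1, 2, 3, 4, 3, 2, 1, 0, 0, 1, 2, 3, 4, 3, 2, 1, 0, 0, 1] (Nat.shiftLeft 1 0)) = true := by decide +kernel

theorem gr46 : sub M45 (U.growI W2 [0, 1, 2, 3, 2, 1, 0, 1, 2, 3, 2, 1, 0] (Nat.shiftLeft 1 432)) = true := by decide +kernel

theorem sd48 : U.sends [11, 5, 3, 5, 7, 11] 0 432 = true := by decide +kernel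

theorem gr49 : sub (ones 2835) (U.growI ([11, 5, 3, 5, 7, 11] :: W2) [0, 1, 2, 3, 4, 3, 2, 1, 0, 0, 1, 2, 3, 4, 3, 2, 1, 0, 0, 1] (Nat.shiftLeft 1 0)) = true := by decide +kernel

theorem gr52 : sub M51 (U.growI W2 [0, 1, 2, 3, 2, 1, 0, 1, 2, 3, 2, 1, 0] (Nat.shiftLeft 1 59)) = true := by decide +kernel

theorem sd54 : U.sends [11, 5, 9, 11] 0 59 = true := by decide +kernel

theorem gr55 : sub (ones 2835) (U.growI ([11, 5, 9, 11] :: W2) [0, 1, 2, 3, 4, 3, 2, 1, 0, 0, 1, 2, 3, 4, 3, 2, 1, 0, 0, 1] (Nat.shiftLeft 1 0)) = true := by decide +kernel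

theorem gr58 : sub M57 (U.growI W2 [0, 2, 3, 2, 1, 0, 1, 2, 3, 2, 1, 0, 1, 2] (Nat.shiftLeft 1 76)) = true := by decide +kernel

theorem sd60 : U.sends [11, 9, 5, 11] 0 76 = true := by decide +kernel

theorem gr61 : sub (ones 2835) (U.growI ([11, 9, 5, 11] :: W2) [0, 1, 3, 4, 3, 2, 1, 0, 0, 1, 2, 3, 4, 3, 2, 1, 0, 0, 1, 2] (Nat.shiftLeft 1 0)) = true := by decide +kernel

theorem gr64 : sub M63 (U.growI W2 [0, 1, 2, 3, 2, 1, 0, 1, 2, 3, 2, 1, 0] (Nat.shiftLeft 1 1)) = true := by decide +kernel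

theorem sd66 : U.sends [11] 0 1 = true := by decide +kernel

theorem gr67 : sub (ones 2835) (U.growI ([11] :: W2) [0, 1, 2, 3, 4, 3, 2, 1, 0, 1, 2, 3, 4, 3, 2, 1, 0, 1, 2, 3] (Nat.shiftLeft 1 0)) = true := by decide +kernel

theorem gr70 : sub M69 (U.growI W2 [0, 1, 2, 3, 2, 1, 0, 1, 2, 3, 2, 1, 0, 1, 2, 3] (Nat.shiftLeft 1 83)) = true := by decide +kernel

theorem sd72 : U.sends [11, 1, 3, 5, 11] 0 83 = true := by decide +kernel

theorem gr73 : sub (ones 2835) (U.growI ([11, 1, 3, 5, 11] :: W2) [0, 1, 2, 3, 4, 3, 2, 1, 0, 0, 1, 2, 3, 4, 3, 2, 1, 0] (Nat.shiftLeft 1 0)) = true := by decide +kernel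

theorem ff75 : U.fixFrom 12 2835 1 = true := by decide +kernel

theorem ff76 : U.fixFrom 12 2835 3 = true := by decide +kernel

theorem ff77 : U.fixFrom 12 2835 5 = true := by decide +kernel

theorem ff78 : U.fixFrom 12 2835 7 = true := by decide +kernel

theorem ff79 : U.fixFrom 12 2835 9 = true := by decide +kernel

theorem ff80 : U.fixFrom 12 2835 11 = true := by decide +kernel

end Cfsg.Agent.Spor.U43a.S
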