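import Cfsg.Agent.Spor.Prim
import Cfsg.Agent.Spor.U43a.Main
import Cfsg.Agent.Spor.U43a.S.C0

set_option autoImplicit false
set_option maxRecDepth 100000000
set_option Elab.async false

namespace Cfsg.Agent.Spor.U43a.S

theorem hU : U.Ok 12 := U.ok_of 12 (show AllP (fun n => Net.okb 12 n = true) [n0, n1, n2, n3, n4, n5] from AllP.cons ok0 (AllP.cons ok1 (AllP.cons ok2 (AllP.cons ok3 (AllP.cons ok4 (AllP.cons ok5 (AllP.nil)))))))

theorem hfP : ∀ j < 6, U.fP [1, 3, 5, 7, 9, 11] j = fP j := by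
  intro j hj
  interval_cases j <;> rfl
theorem eG : gsub 6 fP = U.lsub W1 := (gsub_congr hfP).symm.trans (lsub_eq_gsub U [1, 3, 5, 7, 9, 11])
theorem upz1 : ev (atm 6 fP) [0] = U.τ 1 := pz1
theorem upz3 : ev (atm 6 fP) [2] = U.τ 3 := pz2
theorem upz5 : ev (atm 6 fP) [4] = U.τ 5 := pz3
theorem upz7 : ev (atm 6 fP) [6] = U.τ 7 := pz4
theorem upz9 : ev (atm 6 fP) [8] = U.τ 9 := pz5
theorem upz11 : ev (atm 6 fP) [10] = U.τ 11 := pz6
theorem eH : wsub 6 fP BW = U.lsub W2 :=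
  lsub_eq_of_all₂ (show List.Forall₂ _ [[2], [4], [6], [8]] [[3], [5], [7], [9]] from List.Forall₂.cons (upz3.trans (one_mul _).symm) (List.Forall₂.cons (upz5.trans (one_mul _).symm) (List.Forall₂.cons (upz7.trans (one_mul _).symm) (List.Forall₂.cons (upz9.trans (one_mul _).symm) (List.Forall₂.nil)))))
theorem reach5 : Reach (U.lsub W2) 372 M3 := (Reach.grow hU (Reach.base _ 372) gr4)
theorem reach8 : Reach (U.lsub ([11, 3, 7, 3, 7, 11] :: W2)) 0 (ones 2835) := (Reach.grow hU (Reach.base _ 0) gr7)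
theorem reach11 : Reach (U.lsub W2) 26 M9 := (Reach.grow hU (Reach.base _ 26) gr10)
theorem reach14 : Reach (U.lsub ([11, 1, 3, 11] :: W2)) 0 (ones 2835) := (Reach.grow hU (Reach.base _ 0) gr13)
theorem reach17 : Reach (U.lsub W2) 29 M15 := (Reach.grow hU (Reach.base _ 29) gr16)
theorem reach20 : Reach (U.lsub ([11, 1, 5, 11] :: W2)) 0 (ones 2835) := (Reach.grow hU (Reach.base _ 0) gr19)
theorem reach23 : Reach (U.lsub W2) 48 M21 := (Reach.grow hU (Reach.base _ 48) gr22)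
theorem reach26 : Reach (U.lsub ([11, 3, 9, 11] :: W2)) 0 (ones 2835) := (Reach.grow hU (Reach.base _ 0) gr25)
theorem reach29 : Reach (U.lsub W2) 56 M27 := (Reach.grow hU (Reach.base _ 56) gr28)
theorem reach32 : Reach (U.lsub ([11, 5, 7, 11] :: W2)) 0 (ones 2835) := (Reach.grow hU (Reach.base _ 0) gr31)
theorem reach35 : Reach (U.lsub W2) 40 M33 := (Reach.grow hU (Reach.base _ 40) gr34)
theorem reach38 : Reach (U.lsub ([11, 3, 5, 11] :: W2)) 0 (ones 2835) := (Reach.grow hU (Reach.base _ 0) gr37)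
theorem reach41 : Reach (U.lsub W2) 349 M39 := (Reach.grow hU (Reach.base _ 349) gr40)
theorem reach44 : Reach (U.lsub ([11, 3, 5, 9, 3, 11] :: W2)) 0 (ones 2835) := (Reach.grow hU (Reach.base _ 0) gr43)
theorem reach47 : Reach (U.lsub W2) 432 M45 := (Reach.grow hU (Reach.base _ 432) gr46)
theorem reach50 : Reach (U.lsub ([11, 5, 3, 5, 7, 11] :: W2)) 0 (ones 2835) := (Reach.grow hU (Reach.base _ 0) gr49)
theorem reach53 : Reach (U.lsub W2) 59 M51 := (Reach.grow hU (Reach.base _ 59) gr52)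
theorem reach56 : Reach (U.lsub ([11, 5, 9, 11] :: W2)) 0 (ones 2835) := (Reach.grow hU (Reach.base _ 0) gr55)
theorem reach59 : Reach (U.lsub W2) 76 M57 := (Reach.grow hU (Reach.base _ 76) gr58)
theorem reach62 : Reach (U.lsub ([11, 9, 5, 11] :: W2)) 0 (ones 2835) := (Reach.grow hU (Reach.base _ 0) gr61)
theorem reach65 : Reach (U.lsub W2) 1 M63 := (Reach.grow hU (Reach.base _ 1) gr64)
theorem reach68 : Reach (U.lsub ([11] :: W2)) 0 (ones 2835) := (Reach.grow hU (Reach.base _ 0) gr67)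
theorem reach71 : Reach (U.lsub W2) 83 M69 := (Reach.grow hU (Reach.base _ 83) gr70)
theorem reach74 : Reach (U.lsub ([11, 1, 3, 5, 11] :: W2)) 0 (ones 2835) := (Reach.grow hU (Reach.base _ 0) gr73)
noncomputable def X : List SubO := [([11, 3, 7, 3, 7, 11], 372, M3), ([11, 1, 3, 11], 26, M9), ([11, 1, 5, 11], 29, M15), ([11, 3, 9, 11], 48, M21), ([11, 5, 7, 11], 56, M27), ([11, 3, 5, 11], 40, M33), ([11, 3, 5, 9, 3, 11], 349, M39), ([11, 5, 3, 5, 7, 11], 432, M45), ([11, 5, 9, 11], 59, M51), ([11, 9, 5, 11], 76, M57), ([11], 1, M63), ([11, 1, 3, 5, 11], 83, M69)]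
theorem hX : AllP (SubOk U W2 W1) X :=
  show AllP (SubOk U W2 W1) [([11, 3, 7, 3, 7, 11], 372, M3), ([11, 1, 3, 11], 26, M9), ([11, 1, 5, 11], 29, M15), ([11, 3, 9, 11], 48, M21), ([11, 5, 7, 11], 56, M27), ([11, 3, 5, 11], 40, M33), ([11, 3, 5, 9, 3, 11], 349, M39), ([11, 5, 3, 5, 7, 11], 432, M45), ([11, 5, 9, 11], 59, M51), ([11, 9, 5, 11], 76, M57), ([11], 1, M63), ([11, 1, 3, 5, 11], 83, M69)] from AllP.cons ⟨U.mem_letters (by decide), (hU.sends sd6), reach5⟩ (AllP.cons ⟨U.mem_letters (by decide), (hU.sends sd12), reach11⟩ (AllP.cons ⟨U.mem_letters (by decide), (hU.sends sd18), reach17⟩ (AllP.cons ⟨U.mem_letters (by decide), (hU.sends sd24), reach23⟩ (AllP.cons ⟨U.mem_letters (by decide), (hU.sends sd30), reach29⟩ (AllP.cons ⟨U.mem_letters (by decide), (hU.sends sd36), reach35⟩ (AllP.cons ⟨U.mem_letters (by decide), (hU.sends sd42), reach41⟩ (AllP.cons ⟨U.mem_letters (by decide), (hU.sends sd48), reach47⟩ (AllP.cons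 ⟨U.mem_letters (by decide), (hU.sends sd54), reach53⟩ (AllP.cons ⟨U.mem_letters (by decide), (hU.sends sd60), reach59⟩ (AllP.cons ⟨U.mem_letters (by decide), (hU.sends sd66), reach65⟩ (AllP.cons ⟨U.mem_letters (by decide), (hU.sends sd72), reach71⟩ (AllP.nil))))))))))))
theorem hXc : subCov 2835 X = true := by decide +kernel
theorem hY : AllP (fun x : SubO => Reach (U.lsub (x.1 :: W2)) 0 (ones 2835)) X :=
  show AllP (fun x : SubO => Reach (U.lsub (x.1 :: W2)) 0 (ones 2835)) [([11, 3, 7, 3, 7, 11], 372, M3), ([11, 1, 3, 11], 26, M9), ([11, 1, 5, 11], 29, M15), ([11, 3, 9, 11], 48, M21), ([11, 5, 7, 11], 56, M27), ([11, 3, 5, 11], 40, M33), ([11, 3, 5, 9, 3, 11], 349, M39), ([11, 5, 3, 5, 7, 11], 432, M45), ([11, 5, 9, 11], 59, M51), ([11, 9, 5, 11], 76, M57), ([11], 1, M63), ([11, 1, 3, 5, 11], 83, M69)] from AllP.cons reach8 (AllP.cons reach14 (AllP.cons reach20 (AllP.cons reach26 (AllP.cons reach32 (AllP.cons reach38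 (AllP.cons reach44 (AllP.cons reach50 (AllP.cons reach56 (AllP.cons reach62 (AllP.cons reach68 (AllP.cons reach74 (AllP.nil))))))))))))
theorem hfix : gsub 6 fP ≤ FixFrom 2835 := (gsub_congr hfP).symm.le.trans (hU.gsub_fix (gs := [1, 3, 5, 7, 9, 11]) (AllP.cons ff75 (AllP.cons ff76 (AllP.cons ff77 (AllP.cons ff78 (AllP.cons ff79 (AllP.cons ff80 (AllP.nil))))))))

end Cfsg.Agent.Spor.U43a.S
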